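import Mathlib

/-!
# The algebra of the number `n! 2^g` on `C^n` (S15230)

* `pow_add_eq`: `(θ + w)^a = θ^a + a θ^(a-1) w - a (a-1) θ^(a-1) p` when `w^2 = -2 p θ`, `w p = 0`;
* `step`: one step of the induction for the inverse of the product of the total Chern classes;
* `int_step`: the expansion of `(θ + g p - δ)^a (s + p)^m`;
* `sum_choose`: the final count.
-/

set_option autoImplicit false

namespace K580.NumAlg

open Finset

variable {Q : Type*} [CommRing Q]

theorem pow_add_eq {θ w p : Q} (hwp : w * p = 0) (hww : w * w = -2 * (p * θ)) (a : ℕ) :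
    (θ + w) ^ a = θ ^ a + a * θ ^ (a - 1) * (w - ((a : Q) - 1) * p) := by
  induction a with
  | zero => simp
  | succ a ih =>
    rw [pow_succ, ih]
    cases a with
    | zero => simp
    | succ b =>
      simp only [Nat.add_sub_cancel]
      push_cast
      have h1 : p * w = 0 := by rw [mul_comm, hwp]
      linear_combination ((b : Q) + 1) * θ ^ b * hww - ((b : Q) + 1) * θ ^ b * b * h1

theorem pow_add_sq {u p : Q} (hpp : p * p = 0) (m : ℕ) : (u + p) ^ m = u ^ m + m * u ^ (m - 1) * p := by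
  induction m with
  | zero => simp
  | succ m ih =>
    rw [pow_succ, ih]
    cases m with
    | zero => simp
    | succ b =>
      simp only [Nat.add_sub_cancel]
      push_cast
      linear_combination ((b : Q) + 1) * u ^ b * hpp

theorem pow_add_mul {u p δ c : Q} (hpp : p * p = 0) (hpδ : p * δ = 0) (m : ℕ) :
    (u + p) ^ m * (u + δ + c * p) = u ^ (m + 1) + u ^ m * δ + (c + m) * u ^ m * p := by
  rw [pow_add_sq hpp]
  cases m with
  | zero => simp
  | succ b =>
    simp only [Nat.add_sub_cancel]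
    push_cast
    linear_combination ((b : Q) + 1) * u ^ b * hpδ + ((b : Q) + 1) * u ^ b * c * hpp

/-- one term of the induction step -/
theorem term {θ p δ u c g : Q} (hpp : p * p = 0) (hpδ : p * δ = 0) (hδδ : δ * δ = -2 * (p * θ)) (a m : ℕ) :
    (θ + (g * p - δ)) ^ (a + 1) * ((u + p) ^ m * (u + δ + c * p)) =
      θ ^ (a + 1) * u ^ (m + 1) + (θ ^ (a + 1) * u ^ m - (a + 1) * (θ ^ a * u ^ (m + 1))) * δ +
        ((c + m + 2 * (a + 1)) * (θ ^ (a + 1) * u ^ m) + (a + 1) * (g - a) * (θ ^ a * u ^ (m + 1))) * p := by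
  have hδp : δ * p = 0 := by rw [mul_comm, hpδ]
  rw [pow_add_mul hpp hpδ, pow_add_eq (w := g * p - δ) (p := p) (by linear_combination g * hpp - hδp)
    (by linear_combination g * g * hpp - 2 * g * hpδ + hδδ)]
  simp only [Nat.add_sub_cancel]
  push_cast
  linear_combination (-((a : Q) + 1) * θ ^ a * u ^ m) * hδδ +
    (((a : Q) + 1) * θ ^ a * ((g - a) * u ^ m - (c + m) * u ^ m)) * hpδ +
    (((a : Q) + 1) * θ ^ a * (g - a) * (c + m) * u ^ m) * hpp

/-- the partial sums -/
theorem step_aux {θ p δ u c g : Q} (hpp : p * p = 0) (hpδ : p * δ = 0) (hδδ : δ * δ = -2 * (p * θ))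
    {n ρ : ℕ} (hn : n ≤ ρ) (hc : c + ρ = -g) (e : ℕ → Q) (he : ∀ a < n, (a + 1) * e (a + 1) = e a)
    (k : ℕ) (hk : k ≤ n) :
    ∑ a ∈ range (k + 1), e a * ((θ + (g * p - δ)) ^ a * ((u + p) ^ (ρ - a) * (u + δ + c * p))) =
      ∑ a ∈ range (k + 1), e a * (θ ^ a * u ^ (ρ + 1 - a)) + e k * (θ ^ k * u ^ (ρ - k)) * δ +
        ((k : Q) - g) * (e k * (θ ^ k * u ^ (ρ - k))) * p := by
  induction k with
  | zero =>
    simp only [zero_add, sum_range_one, pow_zero, one_mul, Nat.sub_zero, Nat.cast_zero]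
    rw [pow_add_mul hpp hpδ]
    linear_combination e 0 * u ^ ρ * p * hc
  | succ k ih =>
    rw [sum_range_succ, ih (by omega), sum_range_succ _ (k + 1), term hpp hpδ hδδ]
    have h1 : ρ - k = ρ - (k + 1) + 1 := by omega
    have h2 : ρ + 1 - (k + 1) = ρ - (k + 1) + 1 := by omega
    have h3 : ((ρ - (k + 1) : ℕ) : Q) = ρ - (k + 1) := by
      rw [Nat.cast_sub (by omega)]
      push_cast
      ring
    rw [h1, h2, h3]
    have h4 := he k (by omega)
    generalize hx : θ ^ (k + 1) = x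
    generalize hy : u ^ (ρ - (k + 1)) = y
    generalize hz : u ^ (ρ - (k + 1) + 1) = z
    push_cast
    linear_combination (e (k + 1) * x * y * p) * hc + (- (θ ^ k * z) * δ + (g - k) * (θ ^ k * z) * p) * h4

/-- **the induction step** -/
theorem step {θ p δ u c g : Q} (hpp : p * p = 0) (hpδ : p * δ = 0) (hδδ : δ * δ = -2 * (p * θ))
    {n ρ : ℕ} (hn : n ≤ ρ) (hc : c + ρ = -g) (e : ℕ → Q) (he : ∀ a < n, (a + 1) * e (a + 1) = e a)
    (h1 : θ ^ n * δ = 0) (h2 : θ ^ n * p = 0) :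
    (u + δ + c * p) * ∑ a ∈ range (n + 1), e a * ((θ + (g * p - δ)) ^ a * (u + p) ^ (ρ - a)) =
      ∑ a ∈ range (n + 1), e a * (θ ^ a * u ^ (ρ + 1 - a)) := by
  have h := step_aux (u := u) hpp hpδ hδδ hn hc e he n le_rfl
  rw [show e n * (θ ^ n * u ^ (ρ - n)) * δ = 0 by linear_combination e n * u ^ (ρ - n) * h1,
    show ((n : Q) - g) * (e n * (θ ^ n * u ^ (ρ - n))) * p = 0 by
      linear_combination ((n : Q) - g) * e n * u ^ (ρ - n) * h2, add_zero, add_zero] at h
  rw [← h, mul_sum]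
  refine sum_congr rfl fun a _ => ?_
  ring

/-- the expansion used for the integrals -/
theorem int_step {θ p δ s g : Q} (hpp : p * p = 0) (hpδ : p * δ = 0) (hδδ : δ * δ = -2 * (p * θ)) (a m : ℕ) :
    (θ + (g * p - δ)) ^ a * (s + p) ^ m =
      θ ^ a * s ^ m + m * (θ ^ a * s ^ (m - 1)) * p - a * (θ ^ (a - 1) * s ^ m) * δ +
        a * (g - (a - 1)) * (θ ^ (a - 1) * s ^ m) * p := by
  have hδp : δ * p = 0 := by rw [mul_comm, hpδ]
  rw [pow_add_sq hpp, pow_add_eq (w := g * p - δ) (p := p) (by linear_combination g * hpp - hδp)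
    (by linear_combination g * g * hpp - 2 * g * hpδ + hδδ)]
  linear_combination (- (a : Q) * θ ^ (a - 1) * m * s ^ (m - 1)) * hδp +
    ((a : Q) * θ ^ (a - 1) * m * s ^ (m - 1) * (g - (a - 1))) * hpp

/-- a unit `1 + x` of a commutative ring with `x` nilpotent cancels -/
theorem cancel {x a b : Q} (hx : IsNilpotent x) (h : (1 + x) * a = (1 + x) * b) : a = b :=
  (hx.isUnit_one_add).mul_left_cancel h

/-- `∑_{a ≤ n} (n! / a!) n! g (g - 1) ... (g - a + 1) = n! n! 2^g` for `g ≤ n` -/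
theorem sum_choose {g n : ℕ} (h : g ≤ n) :
    ∑ a ∈ range (n + 1), ((n.factorial / a.factorial : ℕ) : ℤ) * ((n.factorial : ℤ) * (g.descFactorial a : ℤ)) =
      (n.factorial : ℤ) * ((n.factorial : ℤ) * 2 ^ g) := by
  have h1 : ∀ a ∈ range (n + 1),
      ((n.factorial / a.factorial : ℕ) : ℤ) * ((n.factorial : ℤ) * (g.descFactorial a : ℤ)) =
        (n.factorial : ℤ) * (n.factorial : ℤ) * (g.choose a : ℤ) := by
    intro a ha
    have ha' : a ≤ n := by simpa [Nat.lt_succ_iff] using ha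
    have h2 : a.factorial * (n.factorial / a.factorial) = n.factorial :=
      Nat.mul_div_cancel' (Nat.factorial_dvd_factorial ha')
    rw [Nat.descFactorial_eq_factorial_mul_choose]
    generalize n.factorial / a.factorial = q at h2
    have h3 : (a.factorial : ℤ) * (q : ℤ) = n.factorial := by
      exact_mod_cast h2
    push_cast
    linear_combination (n.factorial : ℤ) * (g.choose a : ℤ) * h3
  rw [sum_congr rfl h1, ← mul_sum]
  have h2 : ∑ a ∈ range (n + 1), (g.choose a : ℤ) = 2 ^ g := by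
    have h3 : ∑ a ∈ range (n + 1), g.choose a = ∑ a ∈ range (g + 1), g.choose a := by
      symm
      refine sum_subset (range_subset_range.2 (by omega)) fun a _ ha => ?_
      exact Nat.choose_eq_zero_of_lt (by simpa [Nat.lt_succ_iff] using ha)
    rw [Nat.sum_range_choose] at h3
    exact_mod_cast h3
  rw [h2]
  ring

/-- the coefficients -/
theorem coeff_succ {n a : ℕ} (h : a < n) :
    (a + 1) * (n.factorial / (a + 1).factorial) = n.factorial / a.factorial := by
  have h1 : (a + 1).factorial * (n.factorial / (a + 1).factorial) = n.factorial :=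
    Nat.mul_div_cancel' (Nat.factorial_dvd_factorial (by omega))
  symm
  apply Nat.div_eq_of_eq_mul_right (Nat.factorial_pos a)
  rw [← mul_assoc, mul_comm (a.factorial), ← Nat.factorial_succ, h1]

/-- the numbers `n! g (g - 1) ... (g - a + 1)` satisfy the recursion -/
theorem rec_num (g n a : ℕ) (ha : a ≤ n + 1) :
    ((n + 1 - a : ℕ) : ℤ) * ((n.factorial : ℤ) * (g.descFactorial a : ℤ)) +
      (a : ℤ) * ((g : ℤ) - ((a : ℤ) - 1)) * ((n.factorial : ℤ) * (g.descFactorial (a - 1) : ℤ)) =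
      ((n + 1).factorial : ℤ) * (g.descFactorial a : ℤ) := by
  cases a with
  | zero =>
    rw [Nat.factorial_succ]
    push_cast
    simp
  | succ b =>
    have h1 : (((g : ℤ) - b) * (g.descFactorial b : ℤ)) = (g.descFactorial (b + 1) : ℤ) := by
      rw [Nat.descFactorial_succ]
      rcases le_or_gt b g with h | h
      · rw [Nat.cast_mul, Nat.cast_sub h]
      · rw [Nat.descFactorial_eq_zero_iff_lt.2 h]
        simp
    rw [Nat.factorial_succ, Nat.cast_sub ha]
    simp only [Nat.add_sub_cancel]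
    push_cast
    linear_combination ((b : ℤ) + 1) * (n.factorial : ℤ) * h1

/-! ### the relations -/

/-- The relations between the classes `p_i` of the points and the reduced classes `δ_ij` of the diagonals. -/
structure Rel (g : Q) (P : ℕ → Q) (Δ : ℕ → ℕ → Q) : Prop where
  pp : ∀ i, P i * P i = 0
  symm : ∀ i j, Δ i j = Δ j i
  pd : ∀ i j, P i * Δ i j = 0
  dd : ∀ i j, Δ i j * Δ i j = -2 * g * (P i * P j)
  cube : ∀ a b c, Δ a c * Δ b c = P c * Δ a b

/-- `∑_{j < m} δ_(j i)` -/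
def S (Δ : ℕ → ℕ → Q) (m i : ℕ) : Q := ∑ j ∈ range m, Δ j i

/-- `θ_m = g ∑_{j < m} p_j - ∑_{a < b < m} δ_ab` -/
def th (g : Q) (P : ℕ → Q) (Δ : ℕ → ℕ → Q) (m : ℕ) : Q := g * ∑ j ∈ range m, P j - ∑ j ∈ range m, S Δ j j

variable {g : Q} {P : ℕ → Q} {Δ : ℕ → ℕ → Q}

theorem th_succ (m : ℕ) : th g P Δ (m + 1) = th g P Δ m + (g * P m - S Δ m m) := by
  unfold th
  rw [sum_range_succ, sum_range_succ]
  ring

theorem Rel.P_mul_S (h : Rel g P Δ) (m i : ℕ) : P i * S Δ m i = 0 := by
  unfold S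
  rw [mul_sum]
  refine sum_eq_zero fun j _ => ?_
  rw [h.symm, h.pd]

theorem Rel.S_mul (h : Rel g P Δ) (m b i : ℕ) : S Δ m i * Δ b i = P i * S Δ m b := by
  unfold S
  rw [sum_mul, mul_sum]
  exact sum_congr rfl fun j _ => h.cube j b i

theorem Rel.S_sq (h : Rel g P Δ) (m i : ℕ) : S Δ m i * S Δ m i = -2 * (P i * th g P Δ m) := by
  induction m with
  | zero => simp [S, th]
  | succ m ih =>
    have h1 : S Δ (m + 1) i = S Δ m i + Δ m i := sum_range_succ _ _
    rw [h1, th_succ]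
    have h2 := h.S_mul m m i
    have h3 := h.dd m i
    linear_combination ih + 2 * h2 + h3

/-- the sums `X_i = ∑_{a ≤ n} (n! / a!) θ_i^a (1 + s_i)^(2 n - i - a)` -/
def XX (g : Q) (P : ℕ → Q) (Δ : ℕ → ℕ → Q) (n i : ℕ) : Q :=
  ∑ a ∈ range (n + 1), ((n.factorial / a.factorial : ℕ) : Q) *
    (th g P Δ i ^ a * (1 + ∑ j ∈ range i, P j) ^ (2 * n - i - a))

theorem XX_zero (g : Q) (P : ℕ → Q) (Δ : ℕ → ℕ → Q) (n : ℕ) : XX g P Δ n 0 = (n.factorial : Q) := by
  unfold XX
  rw [sum_eq_single_of_mem 0 (by simp)]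
  · simp [th]
  · intro a _ ha
    have : th g P Δ 0 = 0 := by simp [th]
    rw [this, zero_pow ha]
    simp

theorem Rel.XX_step (h : Rel g P Δ) {n i : ℕ} (hi : i < n) {c : Q} (hc : c = i - (2 * n - 1 + g))
    (h1 : th g P Δ i ^ n * S Δ i i = 0) (h2 : th g P Δ i ^ n * P i = 0) :
    (1 + (S Δ i i + ∑ j ∈ range i, P j + c * P i)) * XX g P Δ n (i + 1) = XX g P Δ n i := by
  have h3 := step (θ := th g P Δ i) (p := P i) (δ := S Δ i i) (u := 1 + ∑ j ∈ range i, P j) (c := c) (g := g)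
    (h.pp i) (h.P_mul_S i i) (h.S_sq i i) (n := n) (ρ := 2 * n - (i + 1)) (by omega)
    (by
      rw [hc, Nat.cast_sub (by omega)]
      push_cast
      ring)
    (fun a => ((n.factorial / a.factorial : ℕ) : Q))
    (fun a ha => by
      have := coeff_succ ha
      exact_mod_cast congrArg (Nat.cast (R := Q)) this) h1 h2
  have h4 : 1 + ∑ j ∈ range (i + 1), P j = 1 + ∑ j ∈ range i, P j + P i := by
    rw [sum_range_succ, add_assoc]
  unfold XX
  rw [th_succ, h4,
    show 1 + (S Δ i i + ∑ j ∈ range i, P j + c * P i) = 1 + ∑ j ∈ range i, P j + S Δ i i + c * P i by ring, h3]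
  refine sum_congr rfl fun a _ => ?_
  rw [show 2 * n - (i + 1) + 1 - a = 2 * n - i - a by omega]

end K580.NumAlg
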