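import Groth.Agent.VBCurve.K553.SubChow
import Groth.Agent.Cyc.K308.OpPoly
import Groth.Agent.CycB.DegReduce

/-!
# Homogeneous operators on the ungraded Chow group

* `HG δ k`: the classes of pure `δ`-dimension `k`; `HO δ d`: the operators lowering the dimension by `d`;
  `HO.mul`, `HO.pow`, `C1_mem`;
* `HO_eq_zero`: operators lowering the dimension by more than the dimension of the scheme are zero;
* `deg_eq_zero`: the degree only sees the zero-dimensional part.
-/

set_option autoImplicit false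
universe u
open CategoryTheory CategoryTheory.Limits AlgebraicGeometry Cyc

namespace K580.NumOp

open K308.Grp Groth.Agent Groth.Agent.CycB

section gen

variable {X : Scheme.{u}} {δ : X → ℤ}

/-- The classes of pure dimension `k`. -/
noncomputable def HG (δ : X → ℤ) (k : ℤ) : AddSubgroup (G X δ) where
  carrier := {a | ∃ α ∈ Zk X δ k, cl δ α = a}
  zero_mem' := ⟨0, fun _ _ => rfl, map_zero _⟩
  add_mem' := by
    rintro _ _ ⟨α, hα, rfl⟩ ⟨β, hβ, rfl⟩
    refine ⟨α + β, fun x hx => ?_, map_add _ _ _⟩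
    rw [Function.locallyFinsuppWithin.coe_add, Pi.add_apply, hα x hx, hβ x hx, add_zero]
  neg_mem' := by
    rintro _ ⟨α, hα, rfl⟩
    refine ⟨-α, fun x hx => ?_, map_neg _ _⟩
    rw [Function.locallyFinsuppWithin.coe_neg, Pi.neg_apply, hα x hx, neg_zero]

/-- The operators lowering the dimension by `d`. -/
noncomputable def HO (δ : X → ℤ) (d : ℤ) : AddSubgroup (AddMonoid.End (G X δ)) where
  carrier := {f | ∀ k, ∀ a ∈ HG δ k, f a ∈ HG δ (k - d)}
  zero_mem' := fun _ _ _ => zero_mem _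
  add_mem' := fun hf hg k a ha => add_mem (hf k a ha) (hg k a ha)
  neg_mem' := fun hf k a ha => neg_mem (hf k a ha)

theorem HO.mul {d e : ℤ} {f g : AddMonoid.End (G X δ)} (hf : f ∈ HO δ d) (hg : g ∈ HO δ e) :
    f * g ∈ HO δ (d + e) := by
  intro k a ha
  have h := hf _ _ (hg k a ha)
  rwa [show k - e - d = k - (d + e) by ring] at h

theorem HO.one : (1 : AddMonoid.End (G X δ)) ∈ HO δ 0 := by
  intro k a ha
  rwa [sub_zero]

theorem HO.pow {d : ℤ} {f : AddMonoid.End (G X δ)} (hf : f ∈ HO δ d) (m : ℕ) : f ^ m ∈ HO δ (m * d) := by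
  induction m with
  | zero => simpa using HO.one
  | succ m ih =>
    rw [pow_succ]
    have h := HO.mul ih hf
    rwa [show (m : ℤ) * d + d = ((m + 1 : ℕ) : ℤ) * d by push_cast; ring] at h

theorem HO.zsmul {d : ℤ} {f : AddMonoid.End (G X δ)} (hf : f ∈ HO δ d) (m : ℤ) : m • f ∈ HO δ d :=
  AddSubgroup.zsmul_mem _ hf m

theorem C1_mem (δ : X → ℤ) (L : X.Modules) : C1 δ L ∈ HO δ 1 := by
  unfold C1
  split_ifs with h
  · rintro k _ ⟨α, hα, rfl⟩
    refine ⟨capCycle h.1 h.2 α, ?_, rfl⟩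
    have h1 := part_c1Cap (δ := δ) L α _ _ (coe_capCycle h.1 h.2 α) (k - 1)
    rw [show k - 1 + 1 = k by ring, part_of_mem hα, ← coe_capCycle h.1 h.2 α] at h1
    rw [← DFunLike.coe_injective h1]
    exact part_mem _ _ _
  · exact zero_mem _

theorem eq_zero_of_neg (hδ : ∀ x, 0 ≤ δ x) {k : ℤ} (hk : k < 0) {a : G X δ} (ha : a ∈ HG δ k) : a = 0 := by
  obtain ⟨α, hα, rfl⟩ := ha
  have : α = 0 := by
    ext x
    exact hα x (by have := hδ x; omega)
  rw [this, map_zero]

theorem exists_sum (hδ : ∀ x, 0 ≤ δ x) {n : ℕ} (hn : ∀ x, δ x ≤ n) (α : AlgebraicCycle X ℤ) :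
    α = ∑ j ∈ Finset.range (n + 1), part δ (j : ℤ) α := by
  ext x
  rw [Function.locallyFinsuppWithin.coe_sum, Finset.sum_apply]
  obtain ⟨m, hm⟩ := Int.eq_ofNat_of_zero_le (hδ x)
  have hm' : m ∈ Finset.range (n + 1) := by
    have := hn x
    rw [hm] at this
    rw [Finset.mem_range]
    exact_mod_cast Nat.lt_succ_of_le (by exact_mod_cast this)
  rw [Finset.sum_eq_single_of_mem m hm']
  · rw [part_apply, if_pos hm]
  · intro j _ hj
    rw [part_apply, if_neg]
    intro h
    rw [hm] at h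
    exact hj (by exact_mod_cast h.symm)

theorem HO_eq_zero (hδ : ∀ x, 0 ≤ δ x) {n : ℕ} (hn : ∀ x, δ x ≤ n) {d : ℤ} (hd : n < d)
    {f : AddMonoid.End (G X δ)} (hf : f ∈ HO δ d) : f = 0 := by
  apply AddMonoidHom.ext
  intro a
  obtain ⟨α, rfl⟩ := cl_surjective δ a
  rw [exists_sum hδ hn α, map_sum, map_sum]
  refine Finset.sum_eq_zero fun j hj => ?_
  refine eq_zero_of_neg hδ ?_ (hf (j : ℤ) _ ⟨_, part_mem _ _ _, rfl⟩)
  have := Finset.mem_range.1 hj
  omega

/-- membership of `1 + x` and so on in the ring of first Chern classes: nilpotency -/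
theorem isNilpotent_of_mem (hδ : ∀ x, 0 ≤ δ x) {n : ℕ} (hn : ∀ x, δ x ≤ n) {x : CR δ}
    (hx : (x : AddMonoid.End (G X δ)) ∈ HO δ 1) : IsNilpotent x := by
  refine ⟨n + 1, ?_⟩
  apply Subtype.ext
  rw [SubmonoidClass.coe_pow, ZeroMemClass.coe_zero]
  have h := HO.pow hx (n + 1)
  exact HO_eq_zero hδ hn (by push_cast; omega) h

end gen

section field

variable (k : Type u) [Field k] {X : Scheme.{u}}

theorem deg_eq_zero (p : X ⟶ Spec (CommRingCat.of k)) [QuasiCompact p] (δ : X → ℤ) {j : ℤ} (hj : j ≠ 0)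
    (α : AlgebraicCycle X ℤ) (hα : α ∈ Zk X δ j) : ChowOps.deg p δ α = 0 := by
  have h1 : part δ 0 α = 0 := part_of_mem_ne hα hj.symm
  have h2 := part_map (δX := δ) (δY := fun _ : Spec (CommRingCat.of k) => (0 : ℤ)) (f := p) α 0
  have h3 := congrArg (fun γ : AlgebraicCycle (Spec (CommRingCat.of k)) ℤ =>
    γ (IsLocalRing.closedPoint k)) h2
  rw [part_apply, if_pos rfl, h1, map_zero'] at h3
  exact h3

end field

section T

open K553.Sub

variable {k : Type u} [Field k] {T : Over (Spec (CommRingCat.of k))} [LocallyOfFiniteType T.hom]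

theorem dlt_nonneg (x : T.left) : 0 ≤ dlt T x := by
  obtain ⟨n, hn, -⟩ := DegReduce.dim_closure k T.hom (dlt T) (dlt_compat T) x
  rw [hn]
  exact Int.natCast_nonneg _

theorem dlt_le {n : ℕ} (h : topologicalKrullDim T.left = n) (x : T.left) : dlt T x ≤ n := by
  obtain ⟨m, hm, hm'⟩ := DegReduce.dim_closure k T.hom (dlt T) (dlt_compat T) x
  rw [hm]
  have h1 : topologicalKrullDim (closure {x} : Set T.left) ≤ topologicalKrullDim T.left :=
    Topology.IsInducing.subtypeVal.topologicalKrullDim_le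
  rw [hm', h] at h1
  exact_mod_cast h1

theorem dlt_generic [IsIntegral T.left] {n : ℕ} (h : topologicalKrullDim T.left = n) :
    dlt T (genericPoint T.left) = n := by
  obtain ⟨m, hm, hm'⟩ := DegReduce.dim_closure k T.hom (dlt T) (dlt_compat T) (genericPoint T.left)
  rw [hm]
  have h1 : topologicalKrullDim (closure {genericPoint T.left} : Set T.left) = topologicalKrullDim T.left := by
    rw [genericPoint_closure]
    exact (Homeomorph.Set.univ T.left).isHomeomorph.topologicalKrullDim_eq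
  rw [hm', h] at h1
  exact_mod_cast h1

theorem fund_mem [IsIntegral T.left] {n : ℕ} (h : topologicalKrullDim T.left = n) :
    fund T ∈ HG (dlt T) n :=
  ⟨_, K306.PtCyc.ptCyc_mem (dlt_generic h), rfl⟩

end T

end K580.NumOp
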