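import Groth.Agent.VBCurve.K580.NumAlg
import Groth.Agent.VBCurve.K580.NumOp
import Groth.Agent.VBCurve.K226.Pow

/-!
# The number `n! 2^g` on `C^n` (S15230), from the relations

* `Inp x₀ g`: the interface (degree, pushforward, numerical relations);
* `main`: the degree of the inverse of the product of the `1 + ell_i`.
-/

set_option autoImplicit false
universe u
open CategoryTheory CategoryTheory.Limits AlgebraicGeometry

namespace K580.NumMain

open K553.Sub K308.Grp K580.NumOp K580.NumAlg Finset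

variable {k : Type u} [Field k] {C : Over (Spec (CommRingCat.of k))}

/-! ### elements of the ring of first Chern classes -/

section elem

variable {T : Over (Spec (CommRingCat.of k))} [LocallyOfFiniteType T.hom]
  (x₀ : pt (Spec (CommRingCat.of k)) ⟶ C)

/-- `cD` in the commutative ring -/
noncomputable def rD (a b : T ⟶ C) : CR (dlt T) := - c1R (dlt T) (D a b)

/-- `cP` in the commutative ring -/
noncomputable def rP (y : T ⟶ C) : CR (dlt T) := rD (toPt T ≫ x₀) y

/-- the reduced class of the diagonal -/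
noncomputable def rδ (a b : T ⟶ C) : CR (dlt T) := rD a b - rP x₀ a - rP x₀ b

theorem coe_rD (a b : T ⟶ C) : (rD a b : AddMonoid.End (GT T)) = cD a b := rfl

theorem coe_rP (y : T ⟶ C) : (rP x₀ y : AddMonoid.End (GT T)) = cP x₀ y := rfl

theorem coe_rδ (a b : T ⟶ C) : (rδ x₀ a b : AddMonoid.End (GT T)) = cD a b - cP x₀ a - cP x₀ b := rfl

theorem rD_mem (a b : T ⟶ C) : (rD a b : AddMonoid.End (GT T)) ∈ HO (dlt T) 1 := neg_mem (C1_mem _ _)

theorem rP_mem (y : T ⟶ C) : (rP x₀ y : AddMonoid.End (GT T)) ∈ HO (dlt T) 1 := rD_mem _ _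

theorem rδ_mem (a b : T ⟶ C) : (rδ x₀ a b : AddMonoid.End (GT T)) ∈ HO (dlt T) 1 :=
  sub_mem (sub_mem (rD_mem _ _) (rP_mem _ _)) (rP_mem _ _)

variable (g : ℕ) (x : ℕ → (T ⟶ C))

/-- the family of the `p_i` -/
noncomputable def fP (i : ℕ) : CR (dlt T) := rP x₀ (x i)

/-- the family of the `δ_ij` -/
noncomputable def fΔ (i j : ℕ) : CR (dlt T) := rδ x₀ (x i) (x j)

/-- `s_m` -/
noncomputable def sv (m : ℕ) : CR (dlt T) := ∑ j ∈ range m, fP x₀ x j

/-- `θ_m` -/
noncomputable def tv (m : ℕ) : CR (dlt T) := th (g : CR (dlt T)) (fP x₀ x) (fΔ x₀ x) m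

variable {x₀} in
theorem coe_sum_mem {ι : Type*} {s : Finset ι} {f : ι → CR (dlt T)} {d : ℤ}
    (h : ∀ i ∈ s, (f i : AddMonoid.End (GT T)) ∈ HO (dlt T) d) :
    ((∑ i ∈ s, f i : CR (dlt T)) : AddMonoid.End (GT T)) ∈ HO (dlt T) d := by
  rw [AddSubmonoidClass.coe_finsetSum]
  exact sum_mem h

theorem fP_mem (i : ℕ) : (fP x₀ x i : AddMonoid.End (GT T)) ∈ HO (dlt T) 1 := rP_mem _ _

theorem sv_mem (m : ℕ) : (sv x₀ x m : AddMonoid.End (GT T)) ∈ HO (dlt T) 1 :=
  coe_sum_mem fun _ _ => rP_mem _ _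

theorem S_mem (m i : ℕ) : ((S (fΔ x₀ x) m i : CR (dlt T)) : AddMonoid.End (GT T)) ∈ HO (dlt T) 1 :=
  coe_sum_mem fun _ _ => rδ_mem _ _ _

theorem tv_mem (m : ℕ) : (tv x₀ g x m : AddMonoid.End (GT T)) ∈ HO (dlt T) 1 := by
  unfold tv th
  refine sub_mem ?_ (coe_sum_mem fun j _ => S_mem x₀ x j j)
  rw [← nsmul_eq_mul]
  exact nsmul_mem (sv_mem x₀ x m) g

theorem coe_mul_mem {f h : CR (dlt T)} {d e : ℤ} (hf : (f : AddMonoid.End (GT T)) ∈ HO (dlt T) d)
    (hh : (h : AddMonoid.End (GT T)) ∈ HO (dlt T) e) : ((f * h : CR (dlt T)) : AddMonoid.End (GT T)) ∈ HO (dlt T) (d + e) :=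
  HO.mul hf hh

theorem coe_pow_mem {f : CR (dlt T)} (hf : (f : AddMonoid.End (GT T)) ∈ HO (dlt T) 1) (m : ℕ) :
    ((f ^ m : CR (dlt T)) : AddMonoid.End (GT T)) ∈ HO (dlt T) m := by
  rw [SubmonoidClass.coe_pow]
  simpa using HO.pow hf m

end elem

/-! ### the interface -/

/-- The inputs: degree, pushforward, numerical relations. -/
structure Inp (x₀ : pt (Spec (CommRingCat.of k)) ⟶ C) (g : ℕ) : Prop where
  degT_cl : ∀ (T : Over (Spec (CommRingCat.of k))) [IsProper T.hom] (α : AlgebraicCycle T.left ℤ),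
    degT T (cl (dlt T) α) = ChowOps.deg T.hom (dlt T) α
  degT_add : ∀ (T : Over (Spec (CommRingCat.of k))) [IsProper T.hom] (a b : GT T),
    degT T (a + b) = degT T a + degT T b
  degT_pushT : ∀ {U T : Over (Spec (CommRingCat.of k))} [IsProper U.hom] [IsProper T.hom] (f : U ⟶ T)
    [IsProper f.left] (a : GT U), degT T (pushT f a) = degT U a
  degT_fund_pt : ∀ (T : Over (Spec (CommRingCat.of k))) [IsProper T.hom] [IsIntegral T.left] [IsIso T.hom],
    degT T (fund T) = 1
  pushT_cD : ∀ {U T : Over (Spec (CommRingCat.of k))} [IsProper U.hom] [IsProper T.hom] (f : U ⟶ T)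
    [IsProper f.left] (a b : T ⟶ C) (x : GT U), pushT f (cD (f ≫ a) (f ≫ b) x) = cD a b (pushT f x)
  pushT_fund : ∀ (T : Over (Spec (CommRingCat.of k))) [IsProper T.hom] [IsIntegral T.left]
    [IsProper (TX C T).hom] [IsIntegral (TX C T).left] [IsProper (pr C T).left],
    pushT (pr C T) (fund (TX C T)) = 0
  pushT_cD_fund : ∀ (T : Over (Spec (CommRingCat.of k))) [IsProper T.hom] [IsIntegral T.left]
    [IsProper (TX C T).hom] [IsIntegral (TX C T).left] [IsProper (pr C T).left] (a : T ⟶ C),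
    pushT (pr C T) (cD (pr C T ≫ a) (qr C T) (fund (TX C T))) = fund T
  cD_symm : ∀ {T : Over (Spec (CommRingCat.of k))} [IsProper T.hom] (a b : T ⟶ C), cD a b = cD b a
  numZ_PP : ∀ {T : Over (Spec (CommRingCat.of k))} [IsProper T.hom] (a : T ⟶ C), NumZ (cP x₀ a * cP x₀ a)
  numZ_Pδ : ∀ {T : Over (Spec (CommRingCat.of k))} [IsProper T.hom] (a b : T ⟶ C),
    NumZ (cP x₀ a * (cD a b - cP x₀ a - cP x₀ b))
  numZ_δδ : ∀ {T : Over (Spec (CommRingCat.of k))} [IsProper T.hom] (a b : T ⟶ C),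
    NumZ ((cD a b - cP x₀ a - cP x₀ b) * (cD a b - cP x₀ a - cP x₀ b) +
      (2 * (g : ℤ)) • (cP x₀ a * cP x₀ b))
  numZ_cube : ∀ {T : Over (Spec (CommRingCat.of k))} [IsProper T.hom] (a b c : T ⟶ C),
    NumZ ((cD a c - cP x₀ a - cP x₀ c) * (cD b c - cP x₀ b - cP x₀ c) -
      cP x₀ c * (cD a b - cP x₀ a - cP x₀ b))

section num

variable {x₀ : pt (Spec (CommRingCat.of k)) ⟶ C} {g : ℕ} (I : Inp x₀ g)
  (T : Over (Spec (CommRingCat.of k))) [IsProper T.hom]

include I in
theorem Inp.degT_zero : degT T (0 : GT T) = 0 := by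
  have := I.degT_add T 0 0
  rw [add_zero] at this
  omega

/-- The numerically trivial elements. -/
noncomputable def NI : Ideal (CR (dlt T)) where
  carrier := {f | NumZ (f : AddMonoid.End (GT T))}
  add_mem' := by
    intro f h hf hh a
    change degT T ((f : AddMonoid.End (GT T)) a + (h : AddMonoid.End (GT T)) a) = 0
    rw [I.degT_add, hf a, hh a, add_zero]
  zero_mem' := fun a => I.degT_zero T
  smul_mem' := by
    intro c f hf a
    change degT T (((c * f : CR (dlt T)) : AddMonoid.End (GT T)) a) = 0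
    rw [mul_comm c f]
    exact hf ((c : AddMonoid.End (GT T)) a)

/-- The degree of the value at a class. -/
noncomputable def dg (z : GT T) : CR (dlt T) →+ ℤ where
  toFun f := degT T ((f : AddMonoid.End (GT T)) z)
  map_zero' := I.degT_zero T
  map_add' _ _ := I.degT_add T _ _

theorem dg_apply (z : GT T) (f : CR (dlt T)) : dg I T z f = degT T ((f : AddMonoid.End (GT T)) z) := rfl

theorem dg_congr (z : GT T) {f h : CR (dlt T)} (hfh : Ideal.Quotient.mk (NI I T) f = Ideal.Quotient.mk (NI I T) h) :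
    dg I T z f = dg I T z h := by
  rw [Ideal.Quotient.eq] at hfh
  have h1 : dg I T z (f - h) = 0 := hfh z
  rw [map_sub] at h1
  omega

theorem dg_natCast_mul (z : GT T) (m : ℕ) (f : CR (dlt T)) : dg I T z ((m : CR (dlt T)) * f) = m * dg I T z f := by
  rw [← nsmul_eq_mul, map_nsmul, nsmul_eq_mul]

theorem dg_eq_zero {n : ℤ} {z : GT T} (hz : z ∈ HG (dlt T) n) {d : ℤ} {f : CR (dlt T)}
    (hf : (f : AddMonoid.End (GT T)) ∈ HO (dlt T) d) (hne : d ≠ n) : dg I T z f = 0 := by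
  obtain ⟨α, hα, h⟩ := hf n z hz
  rw [dg_apply, ← h, I.degT_cl]
  exact deg_eq_zero k T.hom (dlt T) (j := n - d) (by omega) α hα

theorem rel (x : ℕ → (T ⟶ C)) : Rel (g : CR (dlt T) ⧸ NI I T)
    (fun i => Ideal.Quotient.mk (NI I T) (fP x₀ x i)) (fun i j => Ideal.Quotient.mk (NI I T) (fΔ x₀ x i j)) where
  pp i := by
    rw [← map_mul, Ideal.Quotient.eq_zero_iff_mem]
    exact I.numZ_PP (x i)
  symm i j := by
    congr 1
    apply Subtype.ext
    change cD (x i) (x j) - cP x₀ (x i) - cP x₀ (x j) = cD (x j) (x i) - cP x₀ (x j) - cP x₀ (x i)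
    rw [I.cD_symm (x i) (x j)]
    abel
  pd i j := by
    rw [← map_mul, Ideal.Quotient.eq_zero_iff_mem]
    exact I.numZ_Pδ (x i) (x j)
  dd i j := by
    have h : Ideal.Quotient.mk (NI I T) (fΔ x₀ x i j * fΔ x₀ x i j + (2 * (g : ℤ)) • (fP x₀ x i * fP x₀ x j)) = 0 := by
      rw [Ideal.Quotient.eq_zero_iff_mem]
      exact I.numZ_δδ (x i) (x j)
    rw [map_add, map_mul, map_zsmul, map_mul, zsmul_eq_mul] at h
    push_cast at h
    linear_combination h
  cube a b c := by
    have h : Ideal.Quotient.mk (NI I T) (fΔ x₀ x a c * fΔ x₀ x b c - fP x₀ x c * fΔ x₀ x a b) = 0 := by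
      rw [Ideal.Quotient.eq_zero_iff_mem]
      exact I.numZ_cube (x a) (x b) (x c)
    rw [map_sub, map_mul, map_mul] at h
    linear_combination h

theorem mk_S (x : ℕ → (T ⟶ C)) (m i : ℕ) :
    S (fun i j => Ideal.Quotient.mk (NI I T) (fΔ x₀ x i j)) m i =
      Ideal.Quotient.mk (NI I T) (S (fΔ x₀ x) m i) := by
  unfold S
  rw [map_sum]

theorem mk_tv (x : ℕ → (T ⟶ C)) (m : ℕ) :
    th (g : CR (dlt T) ⧸ NI I T) (fun i => Ideal.Quotient.mk (NI I T) (fP x₀ x i))
      (fun i j => Ideal.Quotient.mk (NI I T) (fΔ x₀ x i j)) m = Ideal.Quotient.mk (NI I T) (tv x₀ g x m) := by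
  unfold tv th
  rw [map_sub, map_mul, map_sum, map_sum, map_natCast]
  congr 1
  exact sum_congr rfl fun j _ => mk_S I T x j j

theorem mk_sv (x : ℕ → (T ⟶ C)) (m : ℕ) :
    ∑ j ∈ range m, Ideal.Quotient.mk (NI I T) (fP x₀ x j) = Ideal.Quotient.mk (NI I T) (sv x₀ x m) := by
  unfold sv
  rw [map_sum]

/-- **the degree of `B n`**, from the integrals -/
theorem degT_of_int {n : ℕ} (hgn : g ≤ n) [IsIntegral T.left] (hdim : topologicalKrullDim T.left = n)
    (x : ℕ → (T ⟶ C)) (E : ℕ → CR (dlt T)) (hEm : ∀ i < n, (E i : AddMonoid.End (GT T)) ∈ HO (dlt T) 1)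
    (hE : ∀ i < n, Ideal.Quotient.mk (NI I T) (E i) = Ideal.Quotient.mk (NI I T)
      (S (fΔ x₀ x) i i + sv x₀ x i + ((i : ℤ) - (2 * n - 1 + g)) • fP x₀ x i))
    (B : ℕ → AddMonoid.End (GT T)) (h0 : B 0 = 1)
    (hs : ∀ i < n, (1 + (E i : AddMonoid.End (GT T))) * B (i + 1) = B i)
    (hJ : ∀ a m, a + m = n → dg I T (fund T) (tv x₀ g x n ^ a * sv x₀ x n ^ m) =
      (n.factorial : ℤ) * (g.descFactorial a : ℤ)) :
    degT T (B n (fund T)) = (n.factorial : ℤ) * 2 ^ g := by
  have hδ : ∀ y : T.left, 0 ≤ dlt T y := dlt_nonneg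
  have hδ' : ∀ y : T.left, dlt T y ≤ n := dlt_le hdim
  have hzero : ∀ (f : CR (dlt T)) (d : ℤ), (n : ℤ) < d → (f : AddMonoid.End (GT T)) ∈ HO (dlt T) d → f = 0 :=
    fun f d hd hf => Subtype.ext (HO_eq_zero hδ hδ' hd hf)
  have key : ∀ i ≤ n, ∃ b : CR (dlt T), (b : AddMonoid.End (GT T)) = B i ∧
      (n.factorial : CR (dlt T) ⧸ NI I T) * Ideal.Quotient.mk (NI I T) b =
        XX (g : CR (dlt T) ⧸ NI I T) (fun i => Ideal.Quotient.mk (NI I T) (fP x₀ x i))
          (fun i j => Ideal.Quotient.mk (NI I T) (fΔ x₀ x i j)) n i := by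
    intro i
    induction i with
    | zero =>
      intro _
      refine ⟨1, h0.symm, ?_⟩
      rw [XX_zero, map_one, mul_one]
    | succ i ih =>
      intro hi
      obtain ⟨b, hb, hb'⟩ := ih (by omega)
      have hnil : IsNilpotent (E i) := isNilpotent_of_mem hδ hδ' (hEm i (by omega))
      obtain ⟨v, hv⟩ := hnil.isUnit_one_add
      refine ⟨(↑v⁻¹ : CR (dlt T)) * b, ?_, ?_⟩
      · have h1 : ((↑v⁻¹ * (1 + E i) : CR (dlt T)) : AddMonoid.End (GT T)) = 1 := by
          rw [← hv, Units.inv_mul]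
          rfl
        have h2 : ((↑v⁻¹ : CR (dlt T)) : AddMonoid.End (GT T)) * (1 + (E i : AddMonoid.End (GT T))) = 1 := h1
        change ((↑v⁻¹ : CR (dlt T)) : AddMonoid.End (GT T)) * (b : AddMonoid.End (GT T)) = B (i + 1)
        rw [hb, ← hs i (by omega), ← mul_assoc, h2, one_mul]
      · have hu : IsUnit (Ideal.Quotient.mk (NI I T) (1 + E i)) :=
          (hnil.isUnit_one_add).map (Ideal.Quotient.mk (NI I T))
        apply hu.mul_left_cancel
        have h3 : Ideal.Quotient.mk (NI I T) (1 + E i) * ((n.factorial : CR (dlt T) ⧸ NI I T) *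
            Ideal.Quotient.mk (NI I T) ((↑v⁻¹ : CR (dlt T)) * b)) =
            (n.factorial : CR (dlt T) ⧸ NI I T) * Ideal.Quotient.mk (NI I T) b := by
          rw [mul_left_comm, ← map_mul, ← mul_assoc (1 + E i), ← hv, Units.mul_inv, one_mul]
        rw [h3, hb']
        symm
        have h4 := (rel I T x).XX_step (n := n) (i := i) (by omega)
          (c := (i : CR (dlt T) ⧸ NI I T) - (2 * n - 1 + g)) rfl
          (by
            rw [mk_tv, mk_S, ← map_pow, ← map_mul]
            rw [hzero _ (n + 1) (by omega) (coe_mul_mem (coe_pow_mem (tv_mem x₀ g x i) n) (S_mem x₀ x i i)), map_zero])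
          (by
            rw [mk_tv, ← map_pow, ← map_mul]
            rw [hzero _ (n + 1) (by omega) (coe_mul_mem (coe_pow_mem (tv_mem x₀ g x i) n) (fP_mem x₀ x i)), map_zero])
        rw [map_add, map_one, hE i (by omega), map_add, map_add, map_zsmul, ← mk_S, ← mk_sv, zsmul_eq_mul]
        push_cast
        exact h4
  obtain ⟨b, hb, hb'⟩ := key n le_rfl
  have h1 : dg I T (fund T) ((n.factorial : CR (dlt T)) * b) = dg I T (fund T)
      (∑ a ∈ range (n + 1), ((n.factorial / a.factorial : ℕ) : CR (dlt T)) *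
        (tv x₀ g x n ^ a * (1 + sv x₀ x n) ^ (2 * n - n - a))) := by
    apply dg_congr
    rw [map_mul, map_natCast, hb', map_sum]
    unfold XX
    refine sum_congr rfl fun a _ => ?_
    rw [mk_tv, mk_sv, map_mul, map_natCast, map_mul, map_pow, map_pow, map_add, map_one]
  have h2 : ∀ a m, a + m = n → dg I T (fund T) (tv x₀ g x n ^ a * (1 + sv x₀ x n) ^ m) =
      (n.factorial : ℤ) * (g.descFactorial a : ℤ) := by
    intro a m ham
    rw [add_comm (1 : CR (dlt T)), add_pow, mul_sum, map_sum, sum_eq_single_of_mem m (by simp)]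
    · rw [Nat.choose_self, Nat.cast_one, mul_one, one_pow, mul_one]
      exact hJ a m ham
    · intro j _ hj
      rw [one_pow, mul_one, ← mul_assoc, mul_comm, dg_natCast_mul,
        dg_eq_zero I T (fund_mem hdim) (coe_mul_mem (coe_pow_mem (tv_mem x₀ g x n) a) (coe_pow_mem (sv_mem x₀ x n) j))
          (by omega), mul_zero]
  rw [dg_natCast_mul, map_sum, sum_congr rfl (g := fun a => ((n.factorial / a.factorial : ℕ) : ℤ) *
    ((n.factorial : ℤ) * (g.descFactorial a : ℤ))) ?_, sum_choose hgn, dg_apply, hb] at h1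
  · exact mul_left_cancel₀ (by exact_mod_cast n.factorial_ne_zero) h1
  · intro a ha
    rw [dg_natCast_mul, h2 a _ (by have := mem_range.1 ha; omega)]

end num

/-! ### pushforward -/

section push

variable {x₀ : pt (Spec (CommRingCat.of k)) ⟶ C} {g : ℕ} (I : Inp x₀ g)
  {U T : Over (Spec (CommRingCat.of k))} [IsProper U.hom] [IsProper T.hom] (f : U ⟶ T) [IsProper f.left]

/-- `A` on `U` and `B` on `T` correspond under pushforward. -/
def PF (A : CR (dlt U)) (B : CR (dlt T)) : Prop :=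
  ∀ y : GT U, pushT f ((A : AddMonoid.End (GT U)) y) = (B : AddMonoid.End (GT T)) (pushT f y)

variable {f}

theorem PF.zero : PF f 0 0 := fun _ => (pushT f).map_zero

theorem PF.add {A A' : CR (dlt U)} {B B' : CR (dlt T)} (h : PF f A B) (h' : PF f A' B') : PF f (A + A') (B + B') := by
  intro y
  change pushT f ((A : AddMonoid.End (GT U)) y + (A' : AddMonoid.End (GT U)) y) = _
  rw [map_add, h y, h' y]
  rfl

theorem PF.neg {A : CR (dlt U)} {B : CR (dlt T)} (h : PF f A B) : PF f (-A) (-B) := by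
  intro y
  change pushT f (-((A : AddMonoid.End (GT U)) y)) = _
  rw [map_neg, h y]
  rfl

theorem PF.sub {A A' : CR (dlt U)} {B B' : CR (dlt T)} (h : PF f A B) (h' : PF f A' B') : PF f (A - A') (B - B') := by
  rw [sub_eq_add_neg, sub_eq_add_neg]
  exact h.add h'.neg

theorem PF.one : PF f 1 1 := fun _ => rfl

theorem PF.mul {A A' : CR (dlt U)} {B B' : CR (dlt T)} (h : PF f A B) (h' : PF f A' B') : PF f (A * A') (B * B') := by
  intro y
  change pushT f ((A : AddMonoid.End (GT U)) ((A' : AddMonoid.End (GT U)) y)) = _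
  rw [h, h' y]
  rfl

theorem PF.pow {A : CR (dlt U)} {B : CR (dlt T)} (h : PF f A B) (m : ℕ) : PF f (A ^ m) (B ^ m) := by
  induction m with
  | zero =>
    rw [pow_zero, pow_zero]
    exact PF.one
  | succ m ih =>
    rw [pow_succ, pow_succ]
    exact ih.mul h

theorem PF.natCast (m : ℕ) : PF f (m : CR (dlt U)) (m : CR (dlt T)) := by
  induction m with
  | zero =>
    rw [Nat.cast_zero, Nat.cast_zero]
    exact PF.zero
  | succ m ih =>
    rw [Nat.cast_succ, Nat.cast_succ]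
    exact ih.add PF.one

theorem PF.sum {ι : Type*} (s : Finset ι) {A : ι → CR (dlt U)} {B : ι → CR (dlt T)} (h : ∀ i ∈ s, PF f (A i) (B i)) :
    PF f (∑ i ∈ s, A i) (∑ i ∈ s, B i) := by
  classical
  induction s using Finset.induction_on with
  | empty =>
    rw [sum_empty, sum_empty]
    exact PF.zero
  | insert i s hi ih =>
    rw [sum_insert hi, sum_insert hi]
    exact (h i (mem_insert_self _ _)).add (ih fun j hj => h j (mem_insert_of_mem hj))

variable (f)

theorem comp_toPt (U T : Over (Spec (CommRingCat.of k))) (f : U ⟶ T) : f ≫ toPt T = toPt U := by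
  ext1
  exact Over.w f

include I in
theorem pf_rD (a b : T ⟶ C) : PF f (rD (f ≫ a) (f ≫ b)) (rD a b) := fun y => I.pushT_cD f a b y

include I in
theorem pf_rP (a : T ⟶ C) : PF f (rP x₀ (f ≫ a)) (rP x₀ a) := by
  have h := pf_rD I f (toPt T ≫ x₀) a
  rw [← Category.assoc, comp_toPt] at h
  exact h

include I in
theorem pf_rδ (a b : T ⟶ C) : PF f (rδ x₀ (f ≫ a) (f ≫ b)) (rδ x₀ a b) :=
  ((pf_rD I f a b).sub (pf_rP I f a)).sub (pf_rP I f b)

variable (x' : ℕ → (U ⟶ C)) (x : ℕ → (T ⟶ C)) (m : ℕ) (hx : ∀ j < m, x' j = f ≫ x j)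

include I hx in
theorem pf_sv : PF f (sv x₀ x' m) (sv x₀ x m) := by
  refine PF.sum _ fun j hj => ?_
  change PF f (rP x₀ (x' j)) (rP x₀ (x j))
  rw [hx j (mem_range.1 hj)]
  exact pf_rP I f (x j)

include I hx in
theorem pf_tv : PF f (tv x₀ g x' m) (tv x₀ g x m) := by
  refine ((PF.natCast g).mul (pf_sv I f x' x m hx)).sub (PF.sum _ fun j hj => PF.sum _ fun i hi => ?_)
  have hj' := mem_range.1 hj
  have hi' := mem_range.1 hi
  change PF f (rδ x₀ (x' i) (x' j)) (rδ x₀ (x i) (x j))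
  rw [hx j hj', hx i (by omega)]
  exact pf_rδ I f (x i) (x j)

end push

/-! ### the integrals -/

section integral

variable {x₀ : pt (Spec (CommRingCat.of k)) ⟶ C} {g : ℕ} (I : Inp x₀ g)

section step

variable (T : Over (Spec (CommRingCat.of k))) [IsProper T.hom] [IsIntegral T.left]
  [IsProper (TX C T).hom] [IsIntegral (TX C T).left] [IsProper (pr C T).left]

include I in
theorem push_rP_fund (a : T ⟶ C) : pushT (pr C T) ((rP x₀ (pr C T ≫ a) : AddMonoid.End (GT (TX C T))) (fund (TX C T))) = 0 := by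
  rw [pf_rP I (pr C T) a, I.pushT_fund, map_zero]

include I in
theorem push_rP_qr : pushT (pr C T) ((rP x₀ (qr C T) : AddMonoid.End (GT (TX C T))) (fund (TX C T))) = fund T := by
  have h := I.pushT_cD_fund T (toPt T ≫ x₀)
  rw [← Category.assoc, comp_toPt] at h
  exact h

include I in
theorem push_rδ_qr (a : T ⟶ C) :
    pushT (pr C T) ((rδ x₀ (pr C T ≫ a) (qr C T) : AddMonoid.End (GT (TX C T))) (fund (TX C T))) = 0 := by
  have h := I.pushT_cD_fund T a
  have h1 := push_rP_fund I T a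
  have h2 := push_rP_qr I T
  change pushT (pr C T) ((rD (pr C T ≫ a) (qr C T) : AddMonoid.End (GT (TX C T))) (fund (TX C T)) -
    (rP x₀ (pr C T ≫ a) : AddMonoid.End (GT (TX C T))) (fund (TX C T)) -
    (rP x₀ (qr C T) : AddMonoid.End (GT (TX C T))) (fund (TX C T))) = 0
  rw [map_sub, map_sub, h1, h2, coe_rD, h]
  abel

variable (n : ℕ) (x' : ℕ → (TX C T ⟶ C)) (x : ℕ → (T ⟶ C)) (hx : ∀ j < n, x' j = pr C T ≫ x j)
  (hq : x' n = qr C T)

include I hx hq in
theorem push_S : pushT (pr C T) (((S (fΔ x₀ x') n n : CR (dlt (TX C T))) : AddMonoid.End (GT (TX C T))) (fund (TX C T))) = 0 := by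
  unfold S
  rw [AddSubmonoidClass.coe_finsetSum, ← AddMonoid.End.sum_apply', map_sum]
  refine sum_eq_zero fun j hj => ?_
  change pushT (pr C T) ((rδ x₀ (x' j) (x' n) : AddMonoid.End (GT (TX C T))) (fund (TX C T))) = 0
  rw [hx j (mem_range.1 hj), hq]
  exact push_rδ_qr I T (x j)

include hx hq in
theorem int_succ (hJ : ∀ a m, a + m = n → dg I T (fund T) (tv x₀ g x n ^ a * sv x₀ x n ^ m) =
      (n.factorial : ℤ) * (g.descFactorial a : ℤ)) (a m : ℕ) (ham : a + m = n + 1) :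
    dg I (TX C T) (fund (TX C T)) (tv x₀ g x' (n + 1) ^ a * sv x₀ x' (n + 1) ^ m) =
      ((n + 1).factorial : ℤ) * (g.descFactorial a : ℤ) := by
  have hR := rel I (TX C T) x'
  have h1 : dg I (TX C T) (fund (TX C T)) (tv x₀ g x' (n + 1) ^ a * sv x₀ x' (n + 1) ^ m) =
      dg I (TX C T) (fund (TX C T)) (tv x₀ g x' n ^ a * sv x₀ x' n ^ m +
        (m : CR (dlt (TX C T))) * ((tv x₀ g x' n ^ a * sv x₀ x' n ^ (m - 1)) * fP x₀ x' n) -
        (a : CR (dlt (TX C T))) * ((tv x₀ g x' n ^ (a - 1) * sv x₀ x' n ^ m) * S (fΔ x₀ x') n n) +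
        ((a : ℤ) * ((g : ℤ) - ((a : ℤ) - 1))) • ((tv x₀ g x' n ^ (a - 1) * sv x₀ x' n ^ m) * fP x₀ x' n)) := by
    apply dg_congr
    have h2 := int_step (hR.pp n) (hR.P_mul_S n n) (hR.S_sq n n) a m
      (s := ∑ j ∈ range n, Ideal.Quotient.mk (NI I (TX C T)) (fP x₀ x' j)) (g := (g : CR (dlt (TX C T)) ⧸ NI I (TX C T)))
    rw [← th_succ, ← sum_range_succ, mk_tv, mk_tv, mk_sv, mk_sv, mk_S] at h2
    rw [map_mul, map_pow, map_pow, h2]
    simp only [map_add, map_sub, map_mul, map_pow, map_natCast, zsmul_eq_mul, map_intCast]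
    push_cast
    ring
  have hpush : ∀ (i j : ℕ) (z : GT (TX C T)),
      degT (TX C T) (((tv x₀ g x' n ^ i * sv x₀ x' n ^ j : CR (dlt (TX C T))) : AddMonoid.End (GT (TX C T))) z) =
        degT T (((tv x₀ g x n ^ i * sv x₀ x n ^ j : CR (dlt T)) : AddMonoid.End (GT T)) (pushT (pr C T) z)) := by
    intro i j z
    rw [← I.degT_pushT (pr C T)]
    exact congrArg (degT T) ((((pf_tv I (pr C T) x' x n hx).pow i).mul ((pf_sv I (pr C T) x' x n hx).pow j)) z)
  have e1 : dg I (TX C T) (fund (TX C T)) (tv x₀ g x' n ^ a * sv x₀ x' n ^ m) = 0 := by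
    rw [dg_apply, hpush, I.pushT_fund, map_zero, I.degT_zero]
  have e2 : ∀ i j, dg I (TX C T) (fund (TX C T)) ((tv x₀ g x' n ^ i * sv x₀ x' n ^ j) * fP x₀ x' n) =
      dg I T (fund T) (tv x₀ g x n ^ i * sv x₀ x n ^ j) := by
    intro i j
    have h3 := hpush i j ((fP x₀ x' n : AddMonoid.End (GT (TX C T))) (fund (TX C T)))
    have h4 : pushT (pr C T) ((fP x₀ x' n : AddMonoid.End (GT (TX C T))) (fund (TX C T))) = fund T := by
      change pushT (pr C T) ((rP x₀ (x' n) : AddMonoid.End (GT (TX C T))) (fund (TX C T))) = fund T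
      rw [hq]
      exact push_rP_qr I T
    rw [h4] at h3
    exact h3
  have e3 : ∀ i j, dg I (TX C T) (fund (TX C T)) ((tv x₀ g x' n ^ i * sv x₀ x' n ^ j) * S (fΔ x₀ x') n n) = 0 := by
    intro i j
    have h3 := hpush i j (((S (fΔ x₀ x') n n : CR (dlt (TX C T))) : AddMonoid.End (GT (TX C T))) (fund (TX C T)))
    rw [push_S I T n x' x hx hq, map_zero, I.degT_zero] at h3
    exact h3
  rw [h1, map_add, map_sub, map_add, map_zsmul, dg_natCast_mul, dg_natCast_mul, e1, e2, e3, e2, ← rec_num g n a (by omega)]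
  rcases Nat.eq_zero_or_pos m with hm | hm
  · subst hm
    rcases Nat.eq_zero_or_pos a with ha | ha
    · omega
    · rw [hJ (a - 1) 0 (by omega), show n + 1 - a = 0 by omega, smul_eq_mul]
      push_cast
      ring
  · rw [hJ a (m - 1) (by omega), show n + 1 - a = m by omega]
    rcases Nat.eq_zero_or_pos a with ha | ha
    · subst ha
      simp
    · rw [hJ (a - 1) m (by omega), smul_eq_mul]
      ring

end step

/-- The coordinates, indexed by all natural numbers. -/
noncomputable def cn (x₀ : pt (Spec (CommRingCat.of k)) ⟶ C) (n : ℕ) (j : ℕ) : Pw C n ⟶ C :=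
  if h : j < n then crd C n ⟨j, h⟩ else toPt _ ≫ x₀

theorem cn_of_lt {n j : ℕ} (h : j < n) : cn x₀ n j = crd C n ⟨j, h⟩ := dif_pos h

theorem cn_succ {n j : ℕ} (h : j < n) : (cn x₀ (n + 1) j : TX C (Pw C n) ⟶ C) = pr C (Pw C n) ≫ cn x₀ n j := by
  rw [cn_of_lt h]
  have h1 : (cn x₀ (n + 1) j : TX C (Pw C n) ⟶ C) = crd C (n + 1) ⟨j, by omega⟩ := cn_of_lt (by omega)
  rw [h1]
  exact K226.Pow.crd_castSucc C n ⟨j, h⟩

theorem cn_last (n : ℕ) : (cn x₀ (n + 1) n : TX C (Pw C n) ⟶ C) = qr C (Pw C n) := by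
  have h1 : (cn x₀ (n + 1) n : TX C (Pw C n) ⟶ C) = crd C (n + 1) ⟨n, by omega⟩ := cn_of_lt (by omega)
  rw [h1]
  exact K226.Pow.crd_last C n

instance proper_pr {S : Scheme.{u}} {C : Over S} [IsProper C.hom] (T : Over S) : IsProper (pr C T).left :=
  inferInstanceAs (IsProper (pullback.fst T.hom C.hom))

variable [IsAlgClosed k] [IsIntegral C.left] [IsProper C.hom] [Smooth C.hom]
  (hdim : topologicalKrullDim C.left = 1)

include hdim in
/-- **the integrals** `∫ θ_n^a s_n^(n-a) = n! g (g - 1) ... (g - a + 1)` -/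
theorem integral (n : ℕ) : ∀ [IsProper (Pw C n).hom] [IsIntegral (Pw C n).left] (a m : ℕ) (_ : a + m = n),
    dg I (Pw C n) (fund (Pw C n)) (tv x₀ g (cn x₀ n) n ^ a * sv x₀ (cn x₀ n) n ^ m) =
      (n.factorial : ℤ) * (g.descFactorial a : ℤ) := by
  induction n with
  | zero =>
    intro _ _ a m ham
    have ha : a = 0 := by omega
    have hm : m = 0 := by omega
    rw [ha, hm]
    have : IsIso (Pw C 0).hom := inferInstanceAs (IsIso (𝟙 (Spec (CommRingCat.of k))))
    rw [dg_apply, pow_zero, pow_zero, one_mul]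
    have h := I.degT_fund_pt (Pw C 0)
    simpa using h
  | succ n ih =>
    intro _ _ a m ham
    have h1 : IsProper (Pw C n).hom := (smooth_Pw C n).2
    have h2 : IsIntegral (Pw C n).left := isIntegral_Pw C hdim n
    have h3 : IsProper (TX C (Pw C n)).hom := (smooth_Pw C (n + 1)).2
    have h4 : IsIntegral (TX C (Pw C n)).left := isIntegral_Pw C hdim (n + 1)
    exact int_succ I (Pw C n) n (cn x₀ (n + 1)) (cn x₀ n) (fun j hj => cn_succ hj) (cn_last n) ih a m ham

end integral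

end K580.NumMain
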