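import Groth.Agent.VBCurve.K580.NumMain
import Groth.Agent.VBCurve.K289.SubPush
import Groth.Agent.VBCurve.K826.SubWhit

/-!
# SUB-NUM: the number `n! 2^g` on `C^n` (S15230), from SUB-REL and SUB-CUBE

`degT_num_of`: the statement of `K553.Sub.degT_num` with the numerical relations as hypotheses.
-/

set_option autoImplicit false
universe u
open CategoryTheory CategoryTheory.Limits AlgebraicGeometry

namespace K580.SubNum

open K553.Sub K308.Grp K580.NumOp K580.NumAlg K580.NumMain Finset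

variable {k : Type u} [Field k] [IsAlgClosed k] (C : Over (Spec (CommRingCat.of k)))
  [IsIntegral C.left] [IsProper C.hom] [Smooth C.hom] (hdim : topologicalKrullDim C.left = 1)

/-- the numerical relations, as one structure -/
structure NumRel {C : Over (Spec (CommRingCat.of k))} (x₀ : pt (Spec (CommRingCat.of k)) ⟶ C) (g : ℕ) : Prop where
  cD_symm : ∀ {T : Over (Spec (CommRingCat.of k))} [IsProper T.hom] (a b : T ⟶ C), cD a b = cD b a
  numZ_PP : ∀ {T : Over (Spec (CommRingCat.of k))} [IsProper T.hom] (a : T ⟶ C), NumZ (cP x₀ a * cP x₀ a)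
  numZ_Pδ : ∀ {T : Over (Spec (CommRingCat.of k))} [IsProper T.hom] (a b : T ⟶ C),
    NumZ (cP x₀ a * (cD a b - cP x₀ a - cP x₀ b))
  numZ_δδ : ∀ {T : Over (Spec (CommRingCat.of k))} [IsProper T.hom] (a b : T ⟶ C),
    NumZ ((cD a b - cP x₀ a - cP x₀ b) * (cD a b - cP x₀ a - cP x₀ b) +
      (2 * (g : ℤ)) • (cP x₀ a * cP x₀ b))
  numZ_cube : ∀ {T : Over (Spec (CommRingCat.of k))} [IsProper T.hom] (a b c : T ⟶ C),
    NumZ ((cD a c - cP x₀ a - cP x₀ c) * (cD b c - cP x₀ b - cP x₀ c) -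
      cP x₀ c * (cD a b - cP x₀ a - cP x₀ b))

include hdim in
theorem inp {x₀ : pt (Spec (CommRingCat.of k)) ⟶ C} {g : ℕ} (R : NumRel x₀ g) : Inp x₀ g where
  degT_cl T _ := K553.Sub.degT_cl T
  degT_add T _ := K553.Sub.degT_add T
  degT_pushT f _ := K553.Sub.degT_pushT f
  degT_fund_pt T _ _ _ := K553.Sub.degT_fund_pt T
  pushT_cD f _ := K553.Sub.pushT_cD C hdim f
  pushT_fund T _ _ _ _ _ := K553.Sub.pushT_fund C hdim T
  pushT_cD_fund T _ _ _ _ _ := K553.Sub.pushT_cD_fund C hdim T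
  cD_symm := R.cD_symm
  numZ_PP := R.numZ_PP
  numZ_Pδ := R.numZ_Pδ
  numZ_δδ := R.numZ_δδ
  numZ_cube := R.numZ_cube

section sums

variable {C}
variable (x₀ : pt (Spec (CommRingCat.of k)) ⟶ C) (n : ℕ) [IsProper (Pw C n).hom]

omit [IsAlgClosed k] [IsIntegral C.left] [IsProper C.hom] [Smooth C.hom] in
theorem sum_cl (y : Pw C n ⟶ C) (i : ℕ) (hi : i ≤ n) :
    ((cl C n i).map fun z => cD z y).sum = ((∑ j ∈ range i, rD (cn x₀ n j) y : CR (dlt (Pw C n))) :
      AddMonoid.End (GT (Pw C n))) := by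
  induction i with
  | zero => rfl
  | succ i ih =>
    have h1 : K553.Sub.cl C n (i + 1) = crd C n ⟨i, hi⟩ :: K553.Sub.cl C n i := by
      change (if h : i < n then crd C n ⟨i, h⟩ :: K553.Sub.cl C n i else K553.Sub.cl C n i) = _
      rw [dif_pos]
    rw [h1, List.map_cons, List.sum_cons, ih (by omega), sum_range_succ, add_comm]
    rw [cn_of_lt hi]
    rfl

omit [IsAlgClosed k] [IsIntegral C.left] [IsProper C.hom] [Smooth C.hom] in
theorem rell_eq (y : Pw C n ⟶ C) (hell : ∀ l : List (Pw C n ⟶ C), ∀ N : C.left.Modules, PicF.IsInvertible N →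
      ell N l y = - cN N y + (l.map fun z => cD z y).sum) (N : C.left.Modules) (hN : PicF.IsInvertible N)
    (i : ℕ) (hi : i ≤ n) :
    ((-c1R (dlt (Pw C n)) (tw N (K553.Sub.cl C n i) y) : CR (dlt (Pw C n)))) =
      -c1R (dlt (Pw C n)) ((Scheme.Modules.pullback y.left).obj N) + ∑ j ∈ range i, rD (cn x₀ n j) y := by
  apply Subtype.ext
  have h := hell (K553.Sub.cl C n i) N hN
  rw [sum_cl x₀ n y i hi] at h
  exact h

omit [IsAlgClosed k] [IsIntegral C.left] [IsProper C.hom] [Smooth C.hom] in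
theorem sum_rD (i : ℕ) : ∑ j ∈ range i, rD (cn x₀ n j) (cn x₀ n i) =
    S (fΔ x₀ (cn x₀ n)) i i + sv x₀ (cn x₀ n) i + (i : ℤ) • fP x₀ (cn x₀ n) i := by
  have h : ∀ j, rD (cn x₀ n j) (cn x₀ n i) =
      fΔ x₀ (cn x₀ n) j i + fP x₀ (cn x₀ n) j + fP x₀ (cn x₀ n) i := by
    intro j
    change rD (cn x₀ n j) (cn x₀ n i) = (rD (cn x₀ n j) (cn x₀ n i) - rP x₀ (cn x₀ n j) - rP x₀ (cn x₀ n i)) +
      rP x₀ (cn x₀ n j) + rP x₀ (cn x₀ n i)
    ring
  rw [sum_congr rfl fun j _ => h j, sum_add_distrib, sum_add_distrib, sum_const, card_range, natCast_zsmul]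
  rfl

end sums

include hdim in
/-- **SUB-NUM** from the numerical relations -/
theorem degT_num_of {x₀ : pt (Spec (CommRingCat.of k)) ⟶ C} {g : ℕ} (R : NumRel x₀ g) (n : ℕ) (hgn : g ≤ n)
    [IsProper (Pw C n).hom] [IsIntegral (Pw C n).left] (N : C.left.Modules) (hN : PicF.IsInvertible N)
    (hd : Curv2.deg k C.left N 1 = 2 * (n : ℤ) - 1 + g)
    (hNz : ∀ y : Pw C n ⟶ C, NumZ (cN N y - (Curv2.deg k C.left N 1) • cP x₀ y))
    (B : ℕ → AddMonoid.End (GT (Pw C n))) (h0 : B 0 = 1)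
    (hs : ∀ (i : ℕ) (hi : i < n), (1 + ell N (K553.Sub.cl C n i) (crd C n ⟨i, hi⟩)) * B (i + 1) = B i) :
    degT (Pw C n) (B n (fund (Pw C n))) = (n.factorial : ℤ) * 2 ^ g := by
  have I := inp C hdim R
  refine degT_of_int I (Pw C n) hgn (dim_Pw C hdim n) (cn x₀ n)
    (fun i => -c1R (dlt (Pw C n)) (tw N (K553.Sub.cl C n i) (cn x₀ n i))) (fun i _ => neg_mem (C1_mem _ _)) ?_ B h0 ?_
    (integral I hdim n)
  · intro i hi
    have h1 := rell_eq x₀ n (cn x₀ n i) (fun l M hM => K553.Sub.ell_eq C hdim M hM l (cn x₀ n i)) N hN i hi.le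
    have h2 : Ideal.Quotient.mk (NI I (Pw C n)) (c1R (dlt (Pw C n)) ((Scheme.Modules.pullback (cn x₀ n i).left).obj N)) =
        Ideal.Quotient.mk (NI I (Pw C n)) ((2 * (n : ℤ) - 1 + g) • fP x₀ (cn x₀ n) i) := by
      rw [Ideal.Quotient.eq, ← hd]
      exact hNz (cn x₀ n i)
    rw [h1, sum_rD, map_add, map_neg, h2, ← map_neg, ← map_add]
    congr 1
    rw [sub_smul]
    abel
  · intro i hi
    have h3 := hs i hi
    rw [← cn_of_lt (x₀ := x₀) hi] at h3
    exact h3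

end K580.SubNum
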